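import Mathlib
import Groth.Prelude.Def_ResDeg

set_option linter.unusedSectionVars false
set_option linter.unusedVariables false
set_option linter.unusedSimpArgs false
set_option autoImplicit false
set_option linter.style.haveILetI false
set_option maxHeartbeats 400000

/-!
# Residue fields of a `k`-scheme as `k`-algebras, and `k'`-valued points
-/

noncomputable section

universe u

open CategoryTheory AlgebraicGeometry

namespace Groth.Agent.Lib.Helper6.FFPts

variable {k : Type u} [Field k] {X : Scheme.{u}} (f : X ⟶ Spec (CommRingCat.of k))

/-- The structure map `k ⟶ κ(x)` of a point of a `k`-scheme. -/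
def structHom (x : X) : CommRingCat.of k ⟶ X.residueField x :=
  Spec.preimage (X.fromSpecResidueField x ≫ f)

@[simp]
theorem SpecMap_structHom (x : X) :
    Spec.map (structHom f x) = X.fromSpecResidueField x ≫ f :=
  Spec.map_preimage _

/-- The `k`-algebra structure on `κ(x)`. -/
@[reducible] def resAlg (x : X) : Algebra k (X.residueField x) :=
  (structHom f x).hom.toAlgebra

/-- The `k`-degree of a point. -/
def kdeg (x : X) : ℕ :=
  letI := resAlg f x
  Module.finrank k (X.residueField x)

theorem structHom_congr {x y : X} (h : x = y) :
    structHom f x ≫ (X.residueFieldCongr h).hom = structHom f y := by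
  subst h; simp

/-- Naturality of the structure map. -/
theorem structHom_comp {Y : Scheme.{u}} (g : Y ⟶ X) (y : Y) :
    structHom (g ≫ f) y = structHom f (g y) ≫ g.residueFieldMap y := by
  apply Spec.map_injective
  rw [Spec.map_comp, SpecMap_structHom, SpecMap_structHom,
    Scheme.Hom.SpecMap_residueFieldMap_fromSpecResidueField_assoc]

end Groth.Agent.Lib.Helper6.FFPts
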