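import Mathlib
import Groth.Agent.Lib.Helper6.FFPts.ResAlg

set_option linter.unusedSectionVars false
set_option linter.unusedVariables false
set_option linter.unusedSimpArgs false
set_option autoImplicit false
set_option linter.style.haveILetI false
set_option maxHeartbeats 400000

/-!
# `k'`-valued points of a `k`-scheme as pairs (point, `k`-embedding of the residue field)
-/

noncomputable section

universe u

open CategoryTheory AlgebraicGeometry

namespace Groth.Agent.Lib.Helper6.FFPts

variable {k : Type u} [Field k] {X : Scheme.{u}} (f : X ⟶ Spec (CommRingCat.of k))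
variable (k' : Type u) [Field k'] [Algebra k k']

/-- The `k'`-valued points of the `k`-scheme `X`. -/
abbrev Pts : Type u :=
  { g : Spec (CommRingCat.of k') ⟶ X // g ≫ f = Spec.map (CommRingCat.ofHom (algebraMap k k')) }

/-- `k`-algebra maps `κ(x) → k'`, written with the explicit algebra structure. -/
abbrev KHom (x : X) : Type u :=
  @AlgHom k (X.residueField x) k' _ _ _ (resAlg f x) _

/-- Generic: a subtype of a sigma type defined by a fibrewise predicate. -/
def subtypeSigma {α : Type*} {B : α → Type*} (Q : ∀ a, B a → Prop) :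
    { s : Σ a, B a // Q s.1 s.2 } ≃ Σ a, { b : B a // Q a b } where
  toFun s := ⟨s.1.1, s.1.2, s.2⟩
  invFun t := ⟨⟨t.1, t.2.1⟩, t.2.2⟩
  left_inv s := by rcases s with ⟨⟨a, b⟩, h⟩; rfl
  right_inv t := by rcases t with ⟨a, b, h⟩; rfl

/-- Compatible ring maps are algebra maps. -/
def khomEquiv (x : X) :
    { φ : X.residueField x ⟶ CommRingCat.of k' //
      structHom f x ≫ φ = CommRingCat.ofHom (algebraMap k k') } ≃ KHom f k' x :=
  letI := resAlg f x
  { toFun := fun φ =>
      { toRingHom := φ.1.hom
        commutes' := fun a => by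
          have h := congrArg (fun ψ => ψ.hom a) φ.2
          exact h }
    invFun := fun ψ => ⟨CommRingCat.ofHom ψ.toRingHom, by
      ext a
      exact ψ.commutes a⟩
    left_inv := fun φ => by
      apply Subtype.ext
      rfl
    right_inv := fun ψ => by
      ext a
      rfl }

theorem pts_iff (s : Σ x : X, X.residueField x ⟶ CommRingCat.of k') :
    ((Scheme.SpecToEquivOfField k' X).symm s ≫ f =
        Spec.map (CommRingCat.ofHom (algebraMap k k'))) ↔
      structHom f s.1 ≫ s.2 = CommRingCat.ofHom (algebraMap k k') := by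
  have h : (Scheme.SpecToEquivOfField k' X).symm s ≫ f = Spec.map (structHom f s.1 ≫ s.2) := by
    rw [Spec.map_comp, SpecMap_structHom]
    simp [Scheme.SpecToEquivOfField]
  rw [h, Spec.map_inj]

/-- The `k'`-points of `X` are the pairs of a point `x` and a `k`-algebra map `κ(x) → k'`. -/
def ptsEquiv : Pts f k' ≃ Σ x : X, KHom f k' x :=
  ((Scheme.SpecToEquivOfField k' X).subtypeEquiv (fun g => by
      have h := pts_iff f k' ((Scheme.SpecToEquivOfField k' X) g)
      rw [Equiv.symm_apply_apply] at h
      exact h)).trans
    ((subtypeSigma (fun (x : X) (φ : X.residueField x ⟶ CommRingCat.of k') =>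
        structHom f x ≫ φ = CommRingCat.ofHom (algebraMap k k'))).trans
      (Equiv.sigmaCongrRight fun x => khomEquiv f k' x))

theorem ptsEquiv_fst (g : Pts f k') :
    (ptsEquiv f k' g).1 = g.1 (IsLocalRing.closedPoint k') := rfl

theorem ptsEquiv_symm_apply (s : Σ x : X, KHom f k' x) (z : Spec (CommRingCat.of k')) :
    ((ptsEquiv f k').symm s).1 z = s.1 := by
  have h : ((ptsEquiv f k').symm s).1 =
      Spec.map (CommRingCat.ofHom (s.2 : X.residueField s.1 →+* k')) ≫
        X.fromSpecResidueField s.1 := rfl
  rw [h, Scheme.Hom.comp_apply]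
  exact Scheme.fromSpecResidueField_apply s.1 _

end Groth.Agent.Lib.Helper6.FFPts
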