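import Mathlib
import Groth.Agent.Lib.Helper6.FFPts.Points

set_option linter.unusedSectionVars false
set_option linter.unusedVariables false
set_option linter.unusedSimpArgs false
set_option autoImplicit false
set_option linter.style.haveILetI false
set_option maxHeartbeats 400000

/-!
# Finiteness of the set of points of a finite type scheme over a finite field with values in a
finite field
-/

noncomputable section

universe u

open CategoryTheory AlgebraicGeometry

namespace Groth.Agent.Lib.Helper6.FFPts

/-- Ring maps out of a finite type algebra into a finite ring, with prescribed restriction to the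
base, form a finite set. -/
theorem finite_ringHom_of_finiteType {R A B : Type*} [CommRing R] [CommRing A] [CommRing B]
    [Finite B] (ψ : R →+* A) (hψ : ψ.FiniteType) (a : R →+* B) :
    Finite { φ : A →+* B // φ.comp ψ = a } := by
  letI := ψ.toAlgebra
  letI := a.toAlgebra
  have hft : Algebra.FiniteType R A := hψ
  obtain ⟨s, hs⟩ := hft.out
  let F : { φ : A →+* B // φ.comp ψ = a } → ({x // x ∈ s} → B) := fun φ x => φ.1 x.1
  refine Finite.of_injective F ?_
  intro φ φ' h
  apply Subtype.ext
  let Φ : A →ₐ[R] B := { toRingHom := φ.1, commutes' := fun r => congrArg (fun χ => χ r) φ.2 }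
  let Φ' : A →ₐ[R] B := { toRingHom := φ'.1, commutes' := fun r => congrArg (fun χ => χ r) φ'.2 }
  have hΦ : Φ = Φ' := by
    refine AlgHom.ext_of_adjoin_eq_top hs ?_
    intro x hx
    exact congrFun h ⟨x, Finset.mem_coe.mp hx⟩
  ext x
  exact congrArg (fun χ : A →ₐ[R] B => χ x) hΦ

variable {k : Type u} [Field k] {X : Scheme.{u}} (f : X ⟶ Spec (CommRingCat.of k))
variable (k' : Type u) [Field k'] [Algebra k k']

/-- The structure map of an affine open. -/
def structHomOpen (U : X.affineOpens) : CommRingCat.of k ⟶ Γ(X, U) :=
  Spec.preimage (U.2.fromSpec ≫ f)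

theorem SpecMap_structHomOpen (U : X.affineOpens) :
    Spec.map (structHomOpen f U) = U.2.fromSpec ≫ f := Spec.map_preimage _

theorem finiteType_structHomOpen [LocallyOfFiniteType f] (U : X.affineOpens) :
    (structHomOpen f U).hom.FiniteType := by
  haveI := U.2.isOpenImmersion_fromSpec
  have h : LocallyOfFiniteType (U.2.fromSpec ≫ f) := inferInstance
  rw [← SpecMap_structHomOpen, HasRingHomProperty.Spec_iff (P := @LocallyOfFiniteType)] at h
  exact h

/-- The points with values in the affine open `U`. -/
abbrev OpenPts (U : X.affineOpens) : Type u :=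
  { φ : Γ(X, U) ⟶ CommRingCat.of k' //
    structHomOpen f U ≫ φ = CommRingCat.ofHom (algebraMap k k') }

theorem finite_openPts [LocallyOfFiniteType f] [Finite k'] (U : X.affineOpens) :
    Finite (OpenPts f k' U) := by
  haveI := finite_ringHom_of_finiteType (B := k') (structHomOpen f U).hom
    (finiteType_structHomOpen f U) (algebraMap k k')
  refine Finite.of_injective
    (fun φ : OpenPts f k' U =>
      (⟨φ.1.hom, by
        have h := φ.2
        have h' := congrArg CommRingCat.Hom.hom h
        exact h'⟩ : { φ : Γ(X, U) →+* k' // φ.comp (structHomOpen f U).hom = algebraMap k k' })) ?_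
  intro φ φ' h
  apply Subtype.ext
  ext x
  have := congrArg (fun χ => χ.1 x) h
  exact this

/-- The point of `X` attached to a point with values in `U`. -/
def openPtsMap (U : X.affineOpens) (φ : OpenPts f k' U) : Pts f k' :=
  ⟨Spec.map φ.1 ≫ U.2.fromSpec, by
    rw [Category.assoc, ← SpecMap_structHomOpen, ← Spec.map_comp, φ.2]⟩

theorem mem_range_openPtsMap (U : X.affineOpens) (g : Pts f k')
    (hg : g.1 (IsLocalRing.closedPoint k') ∈ (U : X.Opens)) :
    g ∈ Set.range (openPtsMap f k' U) := by
  have hr : Set.range g.1 ⊆ Set.range U.2.fromSpec := by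
    rintro _ ⟨z, rfl⟩
    rw [U.2.range_fromSpec]
    have hz : z = IsLocalRing.closedPoint k' := by
      haveI : Subsingleton (PrimeSpectrum k') := inferInstance
      exact Subsingleton.elim (α := PrimeSpectrum k') _ _
    rw [hz]
    exact hg
  haveI := U.2.isOpenImmersion_fromSpec
  let l : Spec (CommRingCat.of k') ⟶ Spec Γ(X, U) := IsOpenImmersion.lift U.2.fromSpec g.1 hr
  have hl : l ≫ U.2.fromSpec = g.1 := IsOpenImmersion.lift_fac _ _ _
  refine ⟨⟨Spec.preimage l, ?_⟩, ?_⟩
  · apply Spec.map_injective
    rw [Spec.map_comp, Spec.map_preimage, SpecMap_structHomOpen, reassoc_of% hl, g.2]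
  · apply Subtype.ext
    change Spec.map (Spec.preimage l) ≫ U.2.fromSpec = g.1
    rw [Spec.map_preimage, hl]

/-- Finiteness of the set of `k'`-points. -/
theorem finite_pts [LocallyOfFiniteType f] [QuasiCompact f] [Finite k'] : Finite (Pts f k') := by
  haveI : CompactSpace X := QuasiCompact.compactSpace_of_compactSpace f
  obtain ⟨s, hs, hU⟩ := (isCompact_iff_finite_and_eq_biUnion_affineOpens (U := (⊤ : X.Opens))).mp
    (by simpa using isCompact_univ)
  have hfin : (⋃ U ∈ s, Set.range (openPtsMap f k' U)).Finite := by
    refine Set.Finite.biUnion hs fun U _ => ?_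
    haveI := finite_openPts f k' U
    exact Set.finite_range _
  rw [← Set.finite_univ_iff]
  refine hfin.subset ?_
  intro g _
  have hx : g.1 (IsLocalRing.closedPoint k') ∈ (⊤ : X.Opens) := trivial
  rw [hU] at hx
  simp only [TopologicalSpace.Opens.mem_iSup] at hx
  obtain ⟨U, hUs, hxU⟩ := hx
  exact Set.mem_biUnion hUs (mem_range_openPtsMap f k' U g hxU)

end Groth.Agent.Lib.Helper6.FFPts
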