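import Mathlib
import Groth.Agent.Lib.Helper6.FFPts.ResAlg

set_option linter.unusedSectionVars false
set_option linter.unusedVariables false
set_option linter.unusedSimpArgs false
set_option autoImplicit false
set_option linter.style.haveILetI false
set_option maxHeartbeats 400000

/-!
# Closed points of a scheme locally of finite type over a field
-/

noncomputable section

universe u

open CategoryTheory AlgebraicGeometry

namespace Groth.Agent.Lib.Helper6.FFPts

variable {k : Type u} [Field k] {X : Scheme.{u}} (f : X ⟶ Spec (CommRingCat.of k))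

theorem jacobsonSpace_of_lft [LocallyOfFiniteType f] : JacobsonSpace X :=
  LocallyOfFiniteType.jacobsonSpace f

theorem finite_of_isClosed [LocallyOfFiniteType f] (x : X) (hx : IsClosed ({x} : Set X)) :
    @Module.Finite k (X.residueField x) _ _ (resAlg f x).toModule := by
  haveI := isClosed_singleton_iff_isClosedImmersion.mp hx
  have h1 : LocallyOfFiniteType (X.fromSpecResidueField x ≫ f) := inferInstance
  have h2 : IsFinite (X.fromSpecResidueField x ≫ f) :=
    isFinite_iff_locallyOfFiniteType_of_jacobsonSpace.mpr h1
  rw [← SpecMap_structHom, IsFinite.SpecMap_iff] at h2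
  exact h2

theorem isClosed_of_finite [LocallyOfFiniteType f] (x : X)
    (hx : @Module.Finite k (X.residueField x) _ _ (resAlg f x).toModule) :
    IsClosed ({x} : Set X) := by
  have h2 : (structHom f x).hom.Finite := hx
  rw [← IsFinite.SpecMap_iff, SpecMap_structHom] at h2
  haveI : LocallyOfFiniteType (X.fromSpecResidueField x ≫ f) := inferInstance
  haveI : LocallyOfFiniteType (X.fromSpecResidueField x) :=
    locallyOfFiniteType_of_comp (X.fromSpecResidueField x) f
  haveI := jacobsonSpace_of_lft f
  exact isClosed_singleton_iff_locallyOfFiniteType.mpr inferInstance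

theorem isClosed_iff_finite [LocallyOfFiniteType f] (x : X) :
    IsClosed ({x} : Set X) ↔ @Module.Finite k (X.residueField x) _ _ (resAlg f x).toModule :=
  ⟨finite_of_isClosed f x, isClosed_of_finite f x⟩

theorem kdeg_pos_of_isClosed [LocallyOfFiniteType f] (x : X) (hx : IsClosed ({x} : Set X)) :
    0 < kdeg f x := by
  letI := resAlg f x
  haveI := finite_of_isClosed f x hx
  exact Module.finrank_pos

theorem isClosed_of_kdeg_pos [LocallyOfFiniteType f] (x : X) (hx : 0 < kdeg f x) :
    IsClosed ({x} : Set X) := by
  letI := resAlg f x
  exact isClosed_of_finite f x (Module.finite_of_finrank_pos hx)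

theorem isClosed_iff_kdeg_pos [LocallyOfFiniteType f] (x : X) :
    IsClosed ({x} : Set X) ↔ 0 < kdeg f x :=
  ⟨kdeg_pos_of_isClosed f x, isClosed_of_kdeg_pos f x⟩

end Groth.Agent.Lib.Helper6.FFPts
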