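import Mathlib
import Groth.Agent.Lib.Helper6.FFPts.Points
import Groth.Agent.Lib.Helper6.FFPts.Closed
import Groth.Agent.Lib.Helper6.FFPts.Finite

set_option linter.unusedSectionVars false
set_option linter.unusedVariables false
set_option linter.unusedSimpArgs false
set_option autoImplicit false
set_option linter.style.haveILetI false
set_option maxHeartbeats 400000

/-!
# Counting points with values in a finite extension of a finite field
-/

noncomputable section

universe u

open CategoryTheory AlgebraicGeometry

namespace Groth.Agent.Lib.Helper6.FFPts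

variable {k : Type u} [Field k] {X : Scheme.{u}} (f : X ⟶ Spec (CommRingCat.of k))
variable (k' : Type u) [Field k'] [Algebra k k']

/-- The closed points of `k`-degree `e`. -/
abbrev ClosedDeg (e : ℕ) : Type u := { x : X // IsClosed ({x} : Set X) ∧ kdeg f x = e }

theorem card_khom [Finite k'] (x : X) :
    Nat.card (KHom f k' x) = if kdeg f x ∣ Module.finrank k k' then kdeg f x else 0 := by
  letI := resAlg f x
  by_cases h : kdeg f x ∣ Module.finrank k k'
  · rw [if_pos h]
    exact FiniteField.natCard_algHom_of_finrank_dvd h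
  · rw [if_neg h]
    haveI : IsEmpty (KHom f k' x) := by
      rw [← not_nonempty_iff]
      intro hne
      exact h (FiniteField.nonempty_algHom_iff_finrank_dvd.mp hne)
    exact Nat.card_of_isEmpty

theorem kdeg_dvd_of_khom [Finite k'] (x : X) (h : KHom f k' x) :
    kdeg f x ∣ Module.finrank k k' := by
  letI := resAlg f x
  exact FiniteField.nonempty_algHom_iff_finrank_dvd.mp ⟨h⟩

theorem finrank_pos' [Finite k'] : 0 < Module.finrank k k' := by
  haveI : Module.Finite k k' := Module.Finite.of_finite
  exact Module.finrank_pos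

/-- Regrouping the points by the degree of the underlying closed point. -/
def sigmaDegEquiv [Finite k'] [LocallyOfFiniteType f] :
    (Σ x : X, KHom f k' x) ≃
      Σ e : { e // e ∈ (Module.finrank k k').divisors }, Σ x : ClosedDeg f e.1, KHom f k' x.1 where
  toFun p := ⟨⟨kdeg f p.1, Nat.mem_divisors.mpr ⟨kdeg_dvd_of_khom f k' p.1 p.2,
      (finrank_pos' (k := k) k').ne'⟩⟩,
    ⟨p.1, isClosed_of_kdeg_pos f p.1 (Nat.pos_of_dvd_of_pos (kdeg_dvd_of_khom f k' p.1 p.2)
      (finrank_pos' (k := k) k')), rfl⟩, p.2⟩
  invFun q := ⟨q.2.1.1, q.2.2⟩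
  left_inv p := rfl
  right_inv q := by
    obtain ⟨⟨e, he⟩, x, h⟩ := q
    obtain ⟨x, hx⟩ := x
    have hxe : kdeg f x = e := hx.2
    subst hxe
    rfl

theorem finite_sigma [Finite k'] [LocallyOfFiniteType f] [QuasiCompact f] :
    Finite (Σ x : X, KHom f k' x) := by
  haveI := finite_pts f k'
  exact Finite.of_equiv _ (ptsEquiv f k')

theorem finite_closedDeg_of_dvd [Finite k'] [LocallyOfFiniteType f] [QuasiCompact f] (e : ℕ)
    (he : e ∣ Module.finrank k k') : Finite (ClosedDeg f e) := by
  haveI := finite_sigma f k'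
  have hne : ∀ x : ClosedDeg f e, Nonempty (KHom f k' x.1) := by
    intro x
    letI := resAlg f x.1
    refine FiniteField.nonempty_algHom_of_finrank_dvd ?_
    have : Module.finrank k (X.residueField x.1) = e := x.2.2
    rw [this]
    exact he
  refine Finite.of_injective
    (fun x : ClosedDeg f e => (⟨x.1, (hne x).some⟩ : Σ x : X, KHom f k' x)) ?_
  intro x y h
  apply Subtype.ext
  exact congrArg Sigma.fst h

/-- The number of `k'`-points of a finite type `k`-scheme. -/
theorem card_pts [Finite k'] [LocallyOfFiniteType f] [QuasiCompact f] :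
    Nat.card (Pts f k') =
      ∑ e ∈ (Module.finrank k k').divisors, e * Nat.card (ClosedDeg f e) := by
  haveI := finite_sigma f k'
  rw [Nat.card_congr (ptsEquiv f k'), Nat.card_congr (sigmaDegEquiv f k')]
  haveI hfin2 : Finite (Σ e : { e // e ∈ (Module.finrank k k').divisors },
      Σ x : ClosedDeg f e.1, KHom f k' x.1) := Finite.of_equiv _ (sigmaDegEquiv f k')
  haveI : ∀ e : { e // e ∈ (Module.finrank k k').divisors },
      Finite (Σ x : ClosedDeg f e.1, KHom f k' x.1) := by
    intro e
    refine Finite.of_injective (fun p => (⟨e, p⟩ : Σ e : { e // e ∈ (Module.finrank k k').divisors },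
      Σ x : ClosedDeg f e.1, KHom f k' x.1)) ?_
    intro p q h
    exact eq_of_heq (Sigma.mk.inj h).2
  rw [Nat.card_sigma, ← Finset.sum_coe_sort (Module.finrank k k').divisors
    (fun e => e * Nat.card (ClosedDeg f e))]
  refine Finset.sum_congr rfl fun e _ => ?_
  have hdvd : e.1 ∣ Module.finrank k k' := (Nat.mem_divisors.mp e.2).1
  haveI := finite_closedDeg_of_dvd f k' e.1 hdvd
  haveI := Fintype.ofFinite (ClosedDeg f e.1)
  haveI : ∀ x : ClosedDeg f e.1, Finite (KHom f k' x.1) := by
    intro x
    refine Finite.of_injective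
      (fun h => (⟨x.1, h⟩ : Σ x : X, KHom f k' x)) ?_
    intro p q h
    exact eq_of_heq (Sigma.mk.inj h).2
  rw [Nat.card_sigma]
  have : ∀ x : ClosedDeg f e.1, Nat.card (KHom f k' x.1) = e.1 := by
    intro x
    rw [card_khom, x.2.2, if_pos hdvd]
  simp only [this, Finset.sum_const, Finset.card_univ, smul_eq_mul, Nat.card_eq_fintype_card]
  ring

end Groth.Agent.Lib.Helper6.FFPts
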