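import Mathlib

set_option linter.unusedSectionVars false
set_option linter.unusedVariables false
set_option linter.unusedSimpArgs false
set_option autoImplicit false
set_option linter.style.haveILetI false
set_option maxHeartbeats 400000

/-!
# A degree `n` extension of a finite field, in the same universe
-/

noncomputable section

universe u

namespace Groth.Agent.Lib.Helper6.FFPts

/-- A finite field has, for every `n ≥ 1`, a finite extension of degree `n` in the same universe. -/
theorem exists_extension (k : Type u) [Field k] [Finite k] (n : ℕ) (hn : 0 < n) :
    ∃ (K : Type u) (_ : Field K) (_ : Algebra k K) (_ : Finite K), Module.finrank k K = n := by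
  obtain ⟨p, hp⟩ := CharP.exists k
  haveI : Fact p.Prime := ⟨CharP.char_is_prime k p⟩
  haveI : NeZero n := ⟨hn.ne'⟩
  refine ⟨ULift.{u} (FiniteField.Extension k p n), inferInstance, inferInstance, inferInstance, ?_⟩
  rw [LinearEquiv.finrank_eq (ULift.moduleEquiv (R := k) (M := FiniteField.Extension k p n))]
  exact FiniteField.finrank_extension k p n

/-- A chosen degree `n` extension. -/
def ExtU (k : Type u) [Field k] [Finite k] (n : ℕ) (hn : 0 < n) : Type u :=
  (exists_extension k n hn).choose

instance (k : Type u) [Field k] [Finite k] (n : ℕ) (hn : 0 < n) : Field (ExtU k n hn) :=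
  (exists_extension k n hn).choose_spec.choose

instance (k : Type u) [Field k] [Finite k] (n : ℕ) (hn : 0 < n) : Algebra k (ExtU k n hn) :=
  (exists_extension k n hn).choose_spec.choose_spec.choose

instance (k : Type u) [Field k] [Finite k] (n : ℕ) (hn : 0 < n) : Finite (ExtU k n hn) :=
  (exists_extension k n hn).choose_spec.choose_spec.choose_spec.choose

theorem finrank_extU (k : Type u) [Field k] [Finite k] (n : ℕ) (hn : 0 < n) :
    Module.finrank k (ExtU k n hn) = n :=
  (exists_extension k n hn).choose_spec.choose_spec.choose_spec.choose_spec

end Groth.Agent.Lib.Helper6.FFPts
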