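import Mathlib
import Groth.Agent.Lib.Helper6.FFPts.Count
import Groth.Agent.Lib.Helper6.FFPts.ExtU

set_option linter.unusedSectionVars false
set_option linter.unusedVariables false
set_option linter.unusedSimpArgs false
set_option autoImplicit false
set_option linter.style.haveILetI false
set_option maxHeartbeats 400000

/-!
# Closed points and degrees under immersions; finiteness of closed points of given degree
-/

noncomputable section

universe u

open CategoryTheory AlgebraicGeometry

namespace Groth.Agent.Lib.Helper6.FFPts

variable {k : Type u} [Field k] {X Y : Scheme.{u}} (f : X ⟶ Spec (CommRingCat.of k))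

theorem residueFieldMap_bijective (g : Y ⟶ X) [IsPreimmersion g] (y : Y) :
    Function.Bijective (g.residueFieldMap y).hom := by
  refine ⟨(g.residueFieldMap y).hom.injective, ?_⟩
  intro z
  obtain ⟨w, rfl⟩ := IsLocalRing.residue_surjective (R := Y.presheaf.stalk y) z
  obtain ⟨v, rfl⟩ := g.stalkMap_surjective y w
  refine ⟨X.residue (g y) v, ?_⟩
  have h := Scheme.residue_residueFieldMap g y
  exact congrArg (fun φ => φ.hom v) h

theorem kdeg_comp (g : Y ⟶ X) [IsPreimmersion g] (y : Y) : kdeg (g ≫ f) y = kdeg f (g y) := by
  unfold kdeg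
  letI a1 := resAlg (g ≫ f) y
  letI a2 := resAlg f (g y)
  symm
  refine Algebra.finrank_eq_of_equiv_equiv (RingEquiv.refl k)
    (RingEquiv.ofBijective _ (residueFieldMap_bijective g y)) ?_
  ext a
  have h := structHom_comp f g y
  have h' := congrArg (fun φ => φ.hom a) h
  simp only [CommRingCat.hom_comp, RingHom.comp_apply] at h'
  simp only [RingHom.comp_apply]
  exact h'

theorem isClosed_map_of_isClosed [LocallyOfFiniteType f] (g : Y ⟶ X) [LocallyOfFiniteType g]
    (y : Y) (hy : IsClosed ({y} : Set Y)) : IsClosed ({g y} : Set X) := by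
  haveI := jacobsonSpace_of_lft f
  exact g.closePoints_subset_preimage_closedPoints hy

theorem isClosed_of_isClosed_map (g : Y ⟶ X) (hg : Function.Injective g) (y : Y)
    (hy : IsClosed ({g y} : Set X)) : IsClosed ({y} : Set Y) := by
  have h : ({y} : Set Y) = g ⁻¹' {g y} := by
    ext z
    simp only [Set.mem_singleton_iff, Set.mem_preimage]
    exact ⟨fun h => by rw [h], fun h => hg h⟩
  rw [h]
  exact hy.preimage g.continuous

/-- The closed points of degree `e` of an immersed subscheme are the closed points of degree `e`
of the ambient scheme lying in it. -/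
def closedDegEquivRange [LocallyOfFiniteType f] (g : Y ⟶ X) [IsImmersion g] (e : ℕ) :
    ClosedDeg (g ≫ f) e ≃ { x : ClosedDeg f e // x.1 ∈ Set.range g } :=
  Equiv.ofBijective
    (fun y => ⟨⟨g y.1, isClosed_map_of_isClosed f g y.1 y.2.1,
      (kdeg_comp f g y.1).symm.trans y.2.2⟩, ⟨y.1, rfl⟩⟩)
    ⟨fun y y' h => by
      apply Subtype.ext
      have h1 := congrArg (fun z => z.1.1) h
      exact g.isEmbedding.injective h1,
     fun x => by
      obtain ⟨⟨x, hx, hxe⟩, y, hy⟩ := x
      have hy' : g y = x := hy
      subst hy'
      exact ⟨⟨y, isClosed_of_isClosed_map g g.isEmbedding.injective y hx,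
        (kdeg_comp f g y).trans hxe⟩, rfl⟩⟩

/-- Finiteness of the set of closed points of given positive degree. -/
theorem finite_closedDeg [Finite k] [LocallyOfFiniteType f] [QuasiCompact f] (e : ℕ) :
    Finite (ClosedDeg f e) := by
  rcases Nat.eq_zero_or_pos e with rfl | he
  · haveI : IsEmpty (ClosedDeg f 0) := ⟨fun x => by
      have := kdeg_pos_of_isClosed f x.1 x.2.1
      rw [x.2.2] at this
      exact lt_irrefl _ this⟩
    infer_instance
  · refine finite_closedDeg_of_dvd f (ExtU k e he) e ?_
    rw [finrank_extU]

end Groth.Agent.Lib.Helper6.FFPts
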