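import Mathlib
import Groth.Prelude.Def_ResDeg
import Groth.Agent.Lib.Helper6.FFPts.ResAlg

set_option linter.unusedSectionVars false
set_option linter.unusedVariables false
set_option linter.unusedSimpArgs false
set_option autoImplicit false
set_option linter.style.haveILetI false
set_option maxHeartbeats 400000

/-!
# The prelude's residue degree equals the `k`-degree
-/

noncomputable section

universe u

open CategoryTheory AlgebraicGeometry

namespace Groth.Agent.Lib.Helper6.FFPts

variable {k : Type u} [Field k] {X : Scheme.{u}} (f : X ⟶ Spec (CommRingCat.of k))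

/-- For the base `Spec k` itself the structure map `k ⟶ κ(y)` is bijective. -/
theorem structHom_id_bijective (y : Spec (CommRingCat.of k)) :
    Function.Bijective (structHom (𝟙 (Spec (CommRingCat.of k))) y).hom := by
  refine ⟨(structHom (𝟙 (Spec (CommRingCat.of k))) y).hom.injective, ?_⟩
  haveI : y.asIdeal.IsPrime := PrimeSpectrum.isPrime y
  have h1 : structHom (𝟙 (Spec (CommRingCat.of k))) y =
      CommRingCat.ofHom (algebraMap k y.asIdeal.ResidueField) ≫
        (Scheme.Spec.residueFieldIso (CommRingCat.of k) y).inv := by
    apply Spec.map_injective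
    rw [SpecMap_structHom, Category.comp_id, Spec.map_comp]
    exact (Scheme.Spec.map_residueFieldIso_inv_eq_fromSpecResidueField (CommRingCat.of k) y).symm
  haveI : y.asIdeal.IsMaximal := by
    have : y.asIdeal = ⊥ := Ideal.eq_bot_of_prime _
    rw [this]
    exact Ideal.bot_isMaximal
  rw [h1]
  have h2 : Function.Surjective (algebraMap k y.asIdeal.ResidueField) :=
    Ideal.algebraMap_residueField_surjective _
  have h3 : Function.Surjective
      (Scheme.Spec.residueFieldIso (CommRingCat.of k) y).inv.hom :=
    (ConcreteCategory.bijective_of_isIso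
      (Scheme.Spec.residueFieldIso (CommRingCat.of k) y).inv).2
  intro z
  obtain ⟨w, rfl⟩ := h3 z
  obtain ⟨v, rfl⟩ := h2 w
  exact ⟨v, rfl⟩

theorem structHom_eq_comp_residueFieldMap (x : X) :
    structHom f x = structHom (𝟙 (Spec (CommRingCat.of k))) (f x) ≫ f.residueFieldMap x := by
  have h := structHom_comp (𝟙 (Spec (CommRingCat.of k))) f x
  have h2 : structHom (f ≫ 𝟙 (Spec (CommRingCat.of k))) x = structHom f x := by
    rw [Category.comp_id]
  rw [← h2, h]

/-- The prelude's residue degree of a point of a `k`-scheme is its `k`-degree. -/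
theorem residueDegree_eq_kdeg (x : X) : EGA4loc.residueDegree f x = kdeg f x := by
  unfold EGA4loc.residueDegree kdeg
  letI a1 : Algebra ((Spec (CommRingCat.of k)).residueField (f x)) (X.residueField x) :=
    (f.residueFieldMap x).hom.toAlgebra
  letI a2 : Algebra k (X.residueField x) := resAlg f x
  symm
  refine Algebra.finrank_eq_of_equiv_equiv
    (RingEquiv.ofBijective _ (structHom_id_bijective (f x))) (RingEquiv.refl _) ?_
  ext a
  have h := structHom_eq_comp_residueFieldMap f x
  have h' := congrArg (fun φ => φ.hom a) h
  simp only [CommRingCat.hom_comp, RingHom.comp_apply] at h'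
  simp only [RingHom.comp_apply]
  exact h'.symm

end Groth.Agent.Lib.Helper6.FFPts
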