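import Mathlib
import Groth.Prelude.Def_W4c1zetahwZeta
import Groth.Prelude.Def_SgaExt
import Groth.Agent.Lib.Helper6.FFPts.Count
import Groth.Agent.Lib.Helper6.FFPts.Degree

set_option linter.unusedSectionVars false
set_option linter.unusedVariables false
set_option linter.unusedSimpArgs false
set_option autoImplicit false
set_option linter.style.haveILetI false
set_option maxHeartbeats 400000

/-!
# The prelude's `degCount`, `nPts`, `pointCount` in terms of the library's notions
-/

noncomputable section

universe u

open CategoryTheory AlgebraicGeometry

namespace Groth.Agent.Lib.Helper6.FFPts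

variable {k : Type u} [Field k] {X : Scheme.{u}} (f : X ⟶ Spec (CommRingCat.of k))
variable (k' : Type u) [Field k'] [Algebra k k']

theorem degCount_eq (e : ℕ) : Zeta.degCount f e = Nat.card (ClosedDeg f e) := by
  unfold Zeta.degCount
  refine Nat.card_congr (Equiv.subtypeEquivRight fun x => ?_)
  rw [residueDegree_eq_kdeg]

theorem pointCount_eq : SgaExt.pointCount f k' = Nat.card (Pts f k') := rfl

theorem pointCount_eq_nPts [Finite k'] [LocallyOfFiniteType f] [QuasiCompact f] :
    SgaExt.pointCount f k' = Zeta.nPts f (Module.finrank k k') := by
  rw [pointCount_eq, card_pts, Zeta.nPts]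
  refine Finset.sum_congr rfl fun e _ => ?_
  rw [degCount_eq]

end Groth.Agent.Lib.Helper6.FFPts
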