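import Mathlib
import Groth.Agent.Lib.Helper6.FFPts.Immersion
import Groth.Agent.Lib.Helper6.FFPts.NPts
import Groth.Agent.Lib.Helper6.ZetaFormal

set_option linter.unusedSectionVars false
set_option linter.unusedVariables false
set_option linter.unusedSimpArgs false
set_option autoImplicit false
set_option linter.style.haveILetI false
set_option maxHeartbeats 400000

/-!
# Multiplicativity of the zeta function along a partition into subschemes
-/

noncomputable section

universe u

open CategoryTheory AlgebraicGeometry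

namespace Groth.Agent.Lib.Helper6.FFPts

variable {k : Type u} [Field k] {X : Scheme.{u}} (f : X ⟶ Spec (CommRingCat.of k))

theorem card_closedDeg_partition [Finite k] [LocallyOfFiniteType f] [QuasiCompact f]
    {ι : Type u} [Fintype ι] (Y : ι → Scheme.{u}) (g : ∀ i, Y i ⟶ X) [∀ i, IsImmersion (g i)]
    (hpart : ∀ x : X, IsClosed ({x} : Set X) → ∃! i, x ∈ Set.range (g i).base) (e : ℕ) :
    Nat.card (ClosedDeg f e) = ∑ i, Nat.card (ClosedDeg (g i ≫ f) e) := by
  classical
  haveI := finite_closedDeg f e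
  let d : ClosedDeg f e → ι := fun x => (hpart x.1 x.2.1).choose
  have hd : ∀ (x : ClosedDeg f e) (i : ι), d x = i ↔ x.1 ∈ Set.range (g i) := by
    intro x i
    constructor
    · rintro rfl
      exact (hpart x.1 x.2.1).choose_spec.1
    · intro h
      exact ((hpart x.1 x.2.1).choose_spec.2 i h).symm
  rw [Nat.card_congr (Equiv.sigmaFiberEquiv d).symm, Nat.card_sigma]
  refine Finset.sum_congr rfl fun i _ => ?_
  rw [Nat.card_congr (closedDegEquivRange f (g i) e)]
  exact Nat.card_congr (Equiv.subtypeEquivRight fun x => hd x i)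

theorem nPts_partition [Finite k] [LocallyOfFiniteType f] [QuasiCompact f]
    {ι : Type u} [Fintype ι] (Y : ι → Scheme.{u}) (g : ∀ i, Y i ⟶ X) [∀ i, IsImmersion (g i)]
    (hpart : ∀ x : X, IsClosed ({x} : Set X) → ∃! i, x ∈ Set.range (g i).base) (m : ℕ) :
    Zeta.nPts f m = ∑ i, Zeta.nPts (g i ≫ f) m := by
  unfold Zeta.nPts
  rw [Finset.sum_comm]
  refine Finset.sum_congr rfl fun e _ => ?_
  rw [degCount_eq, card_closedDeg_partition f Y g hpart e, Finset.mul_sum]
  refine Finset.sum_congr rfl fun i _ => ?_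
  rw [degCount_eq]

open PowerSeries Groth.Agent.Lib.Helper6.PSLogDeriv Groth.Agent.Lib.Helper6.ZetaFormal in
theorem zetaFun_partition [Finite k] [LocallyOfFiniteType f] [QuasiCompact f]
    {ι : Type u} [Fintype ι] (Y : ι → Scheme.{u}) (g : ∀ i, Y i ⟶ X) [∀ i, IsImmersion (g i)]
    (hpart : ∀ x : X, IsClosed ({x} : Set X) → ∃! i, x ∈ Set.range (g i).base) :
    Zeta.zetaFun f = ∏ i, Zeta.zetaFun (g i ≫ f) := by
  have h1 := isLD_zetaFun f
  have h2 : IsLD (∏ i, Zeta.zetaFun (g i ≫ f)) (∑ i, d⁄dX ℚ (Zeta.logZeta (g i ≫ f))) :=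
    IsLD.prod _ _ _ fun i _ => isLD_zetaFun (g i ≫ f)
  have h3 : d⁄dX ℚ (Zeta.logZeta f) = ∑ i, d⁄dX ℚ (Zeta.logZeta (g i ≫ f)) := by
    ext m
    rw [coeff_deriv_logZeta, map_sum]
    simp only [coeff_deriv_logZeta]
    rw [nPts_partition f Y g hpart]
    push_cast
    rfl
  rw [← h3] at h2
  refine h1.ext h2 ?_
  rw [constantCoeff_zetaFun, map_prod]
  simp only [constantCoeff_zetaFun, Finset.prod_const_one]

end Groth.Agent.Lib.Helper6.FFPts
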