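import Mathlib
import Groth.Agent.Lib.Helper6.FFPts.Partition

set_option linter.unusedSectionVars false
set_option linter.unusedVariables false
set_option linter.unusedSimpArgs false
set_option autoImplicit false
set_option linter.style.haveILetI false
set_option maxHeartbeats 400000

/-!
# The zeta function of the affine line over a scheme
-/

noncomputable section

universe u

open CategoryTheory AlgebraicGeometry

namespace Groth.Agent.Lib.Helper6.FFPts

variable {k : Type u} [Field k] {X : Scheme.{u}} (f : X ⟶ Spec (CommRingCat.of k))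
variable (K : Type u) [Field K] [Algebra k K]

/-- Global sections of `Spec K`. -/
def gammaEquiv : Γ(Spec (CommRingCat.of K), ⊤) ≃+* K :=
  (Scheme.ΓSpecIso (CommRingCat.of K)).commRingCatIsoToRingEquiv

/-- Points of the affine line over `X` are points of `X` together with a coordinate. -/
def ptsAffineLineEquiv :
    Pts ((𝔸(PUnit.{u + 1}; X) ↘ X) ≫ f) K ≃ Pts f K × K where
  toFun h := (⟨h.1 ≫ (𝔸(PUnit.{u + 1}; X) ↘ X), by rw [Category.assoc]; exact h.2⟩,
    gammaEquiv K (h.1.appTop (AffineSpace.coord X PUnit.unit)))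
  invFun p := ⟨AffineSpace.homOfVector p.1.1 (fun _ => (gammaEquiv K).symm p.2), by
    rw [AffineSpace.homOfVector_over_assoc]; exact p.1.2⟩
  left_inv h := by
    apply Subtype.ext
    apply AffineSpace.hom_ext
    · simp only [AffineSpace.homOfVector_over]
    · rintro ⟨⟩
      rw [AffineSpace.homOfVector_appTop_coord, RingEquiv.symm_apply_apply]
  right_inv p := by
    obtain ⟨⟨g, hg⟩, a⟩ := p
    refine Prod.ext ?_ ?_
    · apply Subtype.ext
      simp only [AffineSpace.homOfVector_over]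
    · simp only [AffineSpace.homOfVector_appTop_coord, RingEquiv.apply_symm_apply]

theorem card_pts_affineLine :
    Nat.card (Pts ((𝔸(PUnit.{u + 1}; X) ↘ X) ≫ f) K) = Nat.card (Pts f K) * Nat.card K := by
  rw [Nat.card_congr (ptsAffineLineEquiv f K), Nat.card_prod]

theorem nPts_affineLine [Finite k] [LocallyOfFiniteType f] [QuasiCompact f] (m : ℕ) :
    Zeta.nPts ((𝔸(PUnit.{u + 1}; X) ↘ X) ≫ f) m = Nat.card k ^ m * Zeta.nPts f m := by
  rcases Nat.eq_zero_or_pos m with rfl | hm
  · simp [Zeta.nPts]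
  · have h1 := pointCount_eq_nPts ((𝔸(PUnit.{u + 1}; X) ↘ X) ≫ f) (ExtU k m hm)
    have h2 := pointCount_eq_nPts f (ExtU k m hm)
    rw [finrank_extU] at h1 h2
    rw [← h1, ← h2, pointCount_eq, pointCount_eq, card_pts_affineLine,
      Module.natCard_eq_pow_finrank (K := k) (V := ExtU k m hm), finrank_extU, mul_comm]

open PowerSeries Groth.Agent.Lib.Helper6.PSLogDeriv Groth.Agent.Lib.Helper6.ZetaFormal in
theorem IsLD.rescale {F L : ℚ⟦X⟧} (h : IsLD F L) (a : ℚ) :
    IsLD (PowerSeries.rescale a F) (a • PowerSeries.rescale a L) := by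
  unfold IsLD at h ⊢
  have h1 : d⁄dX ℚ (PowerSeries.rescale a F) = a • PowerSeries.rescale a (d⁄dX ℚ F) := by
    ext n
    rw [coeff_derivative, coeff_rescale, map_smul, coeff_rescale, coeff_derivative, smul_eq_mul]
    ring
  rw [h1, h, map_mul]
  rw [mul_smul_comm]

open PowerSeries Groth.Agent.Lib.Helper6.PSLogDeriv Groth.Agent.Lib.Helper6.ZetaFormal in
theorem zetaFun_affineLine [Finite k] [LocallyOfFiniteType f] [QuasiCompact f] :
    Zeta.zetaFun ((𝔸(PUnit.{u + 1}; X) ↘ X) ≫ f) =
      PowerSeries.rescale (Nat.card k : ℚ) (Zeta.zetaFun f) := by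
  have h1 := isLD_zetaFun ((𝔸(PUnit.{u + 1}; X) ↘ X) ≫ f)
  have h2 := IsLD.rescale (isLD_zetaFun f) (Nat.card k : ℚ)
  have h3 : d⁄dX ℚ (Zeta.logZeta ((𝔸(PUnit.{u + 1}; X) ↘ X) ≫ f)) =
      (Nat.card k : ℚ) • PowerSeries.rescale (Nat.card k : ℚ) (d⁄dX ℚ (Zeta.logZeta f)) := by
    ext m
    rw [coeff_deriv_logZeta, map_smul, coeff_rescale, coeff_deriv_logZeta, nPts_affineLine,
      smul_eq_mul]
    push_cast
    ring
  rw [← h3] at h2
  refine h1.ext h2 ?_
  rw [constantCoeff_zetaFun, ← coeff_zero_eq_constantCoeff_apply, coeff_rescale,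
    coeff_zero_eq_constantCoeff_apply, constantCoeff_zetaFun]
  simp

end Groth.Agent.Lib.Helper6.FFPts
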