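import Mathlib
import Groth.Agent.Lib.Helper6.FFPts.Partition
import Groth.Agent.Lib.Helper6.PSLogDerivK

set_option linter.unusedSectionVars false
set_option linter.unusedVariables false
set_option linter.unusedSimpArgs false
set_option autoImplicit false
set_option linter.style.haveILetI false
set_option maxHeartbeats 400000

/-!
# The zeta function after a finite extension of the base field
-/

noncomputable section

universe u

open CategoryTheory CategoryTheory.Limits AlgebraicGeometry

namespace Groth.Agent.Lib.Helper6.FFPts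

variable {k : Type u} [Field k] {X : Scheme.{u}} (f : X ⟶ Spec (CommRingCat.of k))
variable (k' : Type u) [Field k'] [Algebra k k']
variable (K : Type u) [Field K] [Algebra k' K] [Algebra k K] [IsScalarTower k k' K]

theorem SpecMap_tower :
    Spec.map (CommRingCat.ofHom (algebraMap k' K)) ≫ Spec.map (CommRingCat.ofHom (algebraMap k k')) =
      Spec.map (CommRingCat.ofHom (algebraMap k K)) := by
  rw [← Spec.map_comp, ← CommRingCat.ofHom_comp, ← IsScalarTower.algebraMap_eq]

/-- `K`-points of the base change (over `k'`) are `K`-points of `X` (over `k`). -/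
def ptsBaseChangeEquiv :
    Pts (pullback.snd f (Spec.map (CommRingCat.ofHom (algebraMap k k')))) K ≃ Pts f K where
  toFun h := ⟨h.1 ≫ pullback.fst f _, by
    rw [Category.assoc, pullback.condition, ← Category.assoc, h.2, SpecMap_tower]⟩
  invFun g := ⟨pullback.lift g.1 (Spec.map (CommRingCat.ofHom (algebraMap k' K)))
      (by rw [g.2, SpecMap_tower]), pullback.lift_snd _ _ _⟩
  left_inv h := by
    apply Subtype.ext
    apply pullback.hom_ext
    · simp only [pullback.lift_fst]
    · simp only [pullback.lift_snd]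
      exact h.2.symm
  right_inv g := by
    apply Subtype.ext
    simp only [pullback.lift_fst]

theorem nPts_baseChange [Finite k'] [LocallyOfFiniteType f] [QuasiCompact f] (m : ℕ) :
    Zeta.nPts (pullback.snd f (Spec.map (CommRingCat.ofHom (algebraMap k k')))) m =
      Zeta.nPts f (Module.finrank k k' * m) := by
  rcases Nat.eq_zero_or_pos m with rfl | hm
  · simp [Zeta.nPts]
  · letI a : Algebra k (ExtU k' m hm) :=
      ((algebraMap k' (ExtU k' m hm)).comp (algebraMap k k')).toAlgebra
    haveI : IsScalarTower k k' (ExtU k' m hm) := IsScalarTower.of_algebraMap_eq fun _ => rfl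
    have h1 := pointCount_eq_nPts
      (pullback.snd f (Spec.map (CommRingCat.ofHom (algebraMap k k')))) (ExtU k' m hm)
    have h2 := pointCount_eq_nPts f (ExtU k' m hm)
    haveI : Module.Finite k k' := Module.Finite.of_finite
    haveI : Module.Finite k' (ExtU k' m hm) := Module.Finite.of_finite
    rw [finrank_extU] at h1
    rw [← Module.finrank_mul_finrank k k' (ExtU k' m hm), finrank_extU] at h2
    rw [← h1, ← h2, pointCount_eq, pointCount_eq]
    exact Nat.card_congr (ptsBaseChangeEquiv f k' (ExtU k' m hm))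

open PowerSeries Groth.Agent.Lib.Helper6.PSLogDerivK Groth.Agent.Lib.Helper6.ZetaFormal in
theorem zetaFun_baseChange [Finite k'] [LocallyOfFiniteType f] [QuasiCompact f]
    (ξ : ℂ) (hξ : IsPrimitiveRoot ξ (Module.finrank k k')) :
    PowerSeries.subst ((PowerSeries.X : PowerSeries ℂ) ^ Module.finrank k k')
        (PowerSeries.map (algebraMap ℚ ℂ)
          (Zeta.zetaFun (pullback.snd f (Spec.map (CommRingCat.ofHom (algebraMap k k')))))) =
      ∏ i ∈ Finset.range (Module.finrank k k'),
        PowerSeries.rescale (ξ ^ i) (PowerSeries.map (algebraMap ℚ ℂ) (Zeta.zetaFun f)) := by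
  haveI : Module.Finite k k' := Module.Finite.of_finite
  set r := Module.finrank k k' with hr
  have hr0 : r ≠ 0 := (Module.finrank_pos (R := k) (M := k')).ne'
  set f' := pullback.snd f (Spec.map (CommRingCat.ofHom (algebraMap k k'))) with hf'
  have hs : HasSubst ((PowerSeries.X : PowerSeries ℂ) ^ r) := HasSubst.X_pow hr0
  have h1 := (IsLDK.of_isLD (K := ℂ) (isLD_zetaFun f')).subst_X_pow r hr0
  have h2 : IsLDK (∏ i ∈ Finset.range r,
      PowerSeries.rescale (ξ ^ i) (PowerSeries.map (algebraMap ℚ ℂ) (Zeta.zetaFun f)))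
      (∑ i ∈ Finset.range r, (ξ ^ i) • PowerSeries.rescale (ξ ^ i)
        (PowerSeries.map (algebraMap ℚ ℂ) (d⁄dX ℚ (Zeta.logZeta f)))) :=
    IsLDK.prod _ _ _ fun i _ => (IsLDK.of_isLD (K := ℂ) (isLD_zetaFun f)).rescale (ξ ^ i)
  have h3 : (PowerSeries.map (algebraMap ℚ ℂ) (d⁄dX ℚ (Zeta.logZeta f'))).subst ((PowerSeries.X : PowerSeries ℂ) ^ r) *
      d⁄dX ℂ ((PowerSeries.X : PowerSeries ℂ) ^ r) =
      ∑ i ∈ Finset.range r, (ξ ^ i) • PowerSeries.rescale (ξ ^ i)
        (PowerSeries.map (algebraMap ℚ ℂ) (d⁄dX ℚ (Zeta.logZeta f))) := by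
    have hd : d⁄dX ℂ ((PowerSeries.X : PowerSeries ℂ) ^ r) = (r : PowerSeries ℂ) * PowerSeries.X ^ (r - 1) := by
      rw [Derivation.leibniz_pow, derivative_X, smul_eq_mul, mul_one, nsmul_eq_mul]
    ext n
    rw [hd, ← mul_assoc, coeff_mul_X_pow', map_sum]
    have hR : ∀ i ∈ Finset.range r, coeff n ((ξ ^ i) • PowerSeries.rescale (ξ ^ i)
        (PowerSeries.map (algebraMap ℚ ℂ) (d⁄dX ℚ (Zeta.logZeta f)))) =
        (ξ ^ (n + 1)) ^ i * (Zeta.nPts f (n + 1) : ℂ) := by
      intro i _
      rw [map_smul, coeff_rescale, coeff_map, coeff_deriv_logZeta, smul_eq_mul]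
      simp only [eq_ratCast, Rat.cast_natCast]
      rw [← pow_mul, ← pow_mul, ← mul_assoc, ← pow_add]
      congr 2
      ring
    rw [Finset.sum_congr rfl hR, ← Finset.sum_mul]
    by_cases hdvd : r ∣ n + 1
    · obtain ⟨j, hj⟩ := hdvd
      have hj1 : 1 ≤ j := by
        rcases Nat.eq_zero_or_pos j with rfl | h
        · omega
        · exact h
      have hle : r - 1 ≤ n := by
        have hrj : r ≤ r * j := Nat.le_mul_of_pos_right r hj1
        omega
      have hsub : n - (r - 1) = r * (j - 1) := by
        have : r * (j - 1) = r * j - r := Nat.mul_sub_one r j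
        have hrj : r ≤ r * j := Nat.le_mul_of_pos_right r hj1
        omega
      rw [if_pos hle, ← map_natCast (C (R := ℂ)) r, coeff_mul_C,
        coeff_subst_X_pow hr0, hsub, if_pos (dvd_mul_right r _), Nat.mul_div_cancel_left _
        (Nat.pos_of_ne_zero hr0), coeff_map, coeff_deriv_logZeta]
      have hone : ξ ^ (n + 1) = 1 := by
        rw [hj, pow_mul, hξ.pow_eq_one, one_pow]
      rw [hone]
      simp only [one_pow, Finset.sum_const, Finset.card_range, nsmul_eq_mul, mul_one]
      have hnp : Zeta.nPts f' (j - 1 + 1) = Zeta.nPts f (n + 1) := by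
        rw [hf', nPts_baseChange, Nat.sub_add_cancel hj1, ← hr, ← hj]
      rw [hnp]
      simp only [Algebra.algebraMap_self, RingHom.id_apply, eq_ratCast, Rat.cast_natCast]
      ring
    · have hne : ξ ^ (n + 1) ≠ 1 := by
        intro h
        exact hdvd ((hξ.pow_eq_one_iff_dvd _).mp h)
      have hsum : ∑ i ∈ Finset.range r, (ξ ^ (n + 1)) ^ i = 0 := by
        have hg := geom_sum_mul (ξ ^ (n + 1)) r
        have hp : (ξ ^ (n + 1)) ^ r = 1 := by
          rw [← pow_mul, mul_comm, pow_mul, hξ.pow_eq_one, one_pow]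
        rw [hp, sub_self] at hg
        rcases mul_eq_zero.mp hg with h | h
        · exact h
        · exact absurd (sub_eq_zero.mp h) hne
      rw [hsum, zero_mul]
      split_ifs with hle
      · rw [← map_natCast (C (R := ℂ)) r, coeff_mul_C,
          coeff_subst_X_pow hr0, if_neg, zero_mul]
        intro hd2
        apply hdvd
        have : n + 1 = (n - (r - 1)) + r := by
          have := Nat.pos_of_ne_zero hr0
          omega
        rw [this]
        exact Dvd.dvd.add hd2 (dvd_refl r)
      · rfl
  rw [h3] at h1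
  refine h1.ext h2 ?_
  rw [constantCoeff_subst_X_pow hr0, map_prod]
  have hc : ∀ i ∈ Finset.range r, constantCoeff (PowerSeries.rescale (ξ ^ i)
      (PowerSeries.map (algebraMap ℚ ℂ) (Zeta.zetaFun f))) = 1 := by
    intro i _
    rw [← coeff_zero_eq_constantCoeff_apply, coeff_rescale, coeff_map,
      coeff_zero_eq_constantCoeff_apply, constantCoeff_zetaFun]
    simp
  rw [Finset.prod_congr rfl hc, Finset.prod_const_one, ← coeff_zero_eq_constantCoeff_apply,
    coeff_map, coeff_zero_eq_constantCoeff_apply, constantCoeff_zetaFun]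
  simp

end Groth.Agent.Lib.Helper6.FFPts
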