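import Mathlib

set_option linter.unusedSectionVars false
set_option linter.unusedVariables false
set_option linter.unusedSimpArgs false
set_option autoImplicit false
set_option linter.style.haveILetI false
set_option maxHeartbeats 400000

/-!
# Bounding the number of points of a finite type algebra over a field with values in a finite
field, via Noether normalization
-/

noncomputable section

universe u

namespace Groth.Agent.Lib.Helper6.FFPts

/-- An integral injective extension does not lower the Krull dimension. -/
theorem ringKrullDim_le_of_integral_injective {R S : Type*} [CommRing R] [CommRing S]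
    [Algebra R S] [Algebra.IsIntegral R S] (h : Function.Injective (algebraMap R S)) :
    ringKrullDim R ≤ ringKrullDim S := by
  unfold ringKrullDim Order.krullDim
  refine iSup_le fun l => ?_
  haveI : l.head.asIdeal.IsPrime := l.head.isPrime
  obtain ⟨Q, -, hQ, hQc⟩ := Ideal.exists_ideal_over_prime_of_isIntegral
    (S := S) l.head.asIdeal (⊥ : Ideal S) (by
      have : (⊥ : Ideal S).comap (algebraMap R S) = RingHom.ker (algebraMap R S) := rfl
      rw [this, (RingHom.injective_iff_ker_eq_bot _).mp h]
      exact bot_le)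
  haveI : Q.LiesOver l.head.asIdeal := ⟨hQc.symm⟩
  obtain ⟨L, hL, -, -⟩ := Ideal.exists_ltSeries_of_hasGoingUp l Q
  rw [← hL]
  exact le_iSup (fun p : LTSeries (PrimeSpectrum S) => (p.length : WithBot ℕ∞)) L

/-- Ring maps to a field extending a given map on a subring over which the source is generated
as a module by `t`: at most `#t`. -/
theorem fiber_card_le {R A L : Type*} [CommRing R] [CommRing A] [Field L] (g : R →+* A)
    (t : Finset A) (ht : ∀ a : A, ∃ c : t → R, a = ∑ x : t, g (c x) * x.1) (φ₀ : R →+* L) :
    Finite { φ : A →+* L // φ.comp g = φ₀ } ∧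
      Nat.card { φ : A →+* L // φ.comp g = φ₀ } ≤ t.card := by
  classical
  -- the family of the `φ` as functions is linearly independent
  have hinj : Function.Injective
      (fun φ : { φ : A →+* L // φ.comp g = φ₀ } => (φ.1 : A →* L)) := by
    intro φ φ' h
    apply Subtype.ext
    ext a
    exact congrArg (fun χ : A →* L => χ a) h
  have hli : LinearIndependent L
      (fun φ : { φ : A →+* L // φ.comp g = φ₀ } => ((φ.1 : A →* L) : A → L)) :=
    (linearIndependent_monoidHom A L).comp _ hinj
  -- the submodule of `φ₀`-semilinear functions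
  let W : Submodule L (A → L) :=
    { carrier := { h | ∀ c : t → R, h (∑ x : t, g (c x) * x.1) = ∑ x : t, φ₀ (c x) * h x.1 }
      add_mem' := by
        intro h h' hh hh' c
        simp only [Pi.add_apply, hh c, hh' c, mul_add, Finset.sum_add_distrib]
      zero_mem' := by
        intro c
        simp
      smul_mem' := by
        intro l h hh c
        simp only [Pi.smul_apply, smul_eq_mul, hh c, Finset.mul_sum]
        refine Finset.sum_congr rfl fun x _ => ?_
        ring }
  have hW : Submodule.span L (Set.range
      (fun φ : { φ : A →+* L // φ.comp g = φ₀ } => ((φ.1 : A →* L) : A → L))) ≤ W := by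
    rw [Submodule.span_le]
    rintro _ ⟨φ, rfl⟩ c
    change φ.1 (∑ x : t, g (c x) * x.1) = ∑ x : t, φ₀ (c x) * φ.1 x.1
    rw [map_sum]
    refine Finset.sum_congr rfl fun x _ => ?_
    rw [map_mul]
    congr 1
    exact congrArg (fun χ : R →+* L => χ (c x)) φ.2
  let ev : (A → L) →ₗ[L] (t → L) := LinearMap.funLeft L L (Subtype.val : t → A)
  have hdisj : Disjoint (Submodule.span L (Set.range
      (fun φ : { φ : A →+* L // φ.comp g = φ₀ } => ((φ.1 : A →* L) : A → L))))
      (LinearMap.ker ev) := by
    rw [Submodule.disjoint_def]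
    intro h hspan hker
    have hhW := hW hspan
    funext a
    obtain ⟨c, rfl⟩ := ht a
    rw [hhW c]
    have hz : ∀ x : t, h x.1 = 0 := fun x => congrFun (LinearMap.mem_ker.mp hker) x
    simp [hz]
  have hli2 := hli.map hdisj
  haveI : Finite { φ : A →+* L // φ.comp g = φ₀ } := hli2.finite_of_isNoetherian
  refine ⟨inferInstance, ?_⟩
  haveI := Fintype.ofFinite { φ : A →+* L // φ.comp g = φ₀ }
  have h := hli2.fintype_card_le_finrank
  rw [Module.finrank_fintype_fun_eq_card, Fintype.card_coe] at h
  rw [Nat.card_eq_fintype_card]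
  exact h

/-- Ring maps from a polynomial ring in `s` variables to a finite ring `L`, with prescribed
restriction to the constants: at most `#L ^ s`. -/
theorem mvPoly_card_le {k L : Type*} [CommRing k] [CommRing L] [Finite L] (s : ℕ) (a : k →+* L) :
    Finite { φ : MvPolynomial (Fin s) k →+* L // φ.comp MvPolynomial.C = a } ∧
      Nat.card { φ : MvPolynomial (Fin s) k →+* L // φ.comp MvPolynomial.C = a } ≤
        Nat.card L ^ s := by
  have hinj : Function.Injective
      (fun φ : { φ : MvPolynomial (Fin s) k →+* L // φ.comp MvPolynomial.C = a } =>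
        fun i : Fin s => φ.1 (MvPolynomial.X i)) := by
    intro φ φ' h
    apply Subtype.ext
    refine MvPolynomial.ringHom_ext ?_ ?_
    · intro r
      have h1 := congrArg (fun χ : k →+* L => χ r) φ.2
      have h2 := congrArg (fun χ : k →+* L => χ r) φ'.2
      exact h1.trans h2.symm
    · intro i
      exact congrFun h i
  refine ⟨Finite.of_injective _ hinj, ?_⟩
  have h := Nat.card_le_card_of_injective _ hinj
  rwa [Nat.card_fun, Nat.card_fin] at h

/-- Combination. -/
theorem hom_card_le {k A L : Type*} [CommRing k] [CommRing A] [Field L] [Finite L]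
    (ψ : k →+* A) (s : ℕ) (g : MvPolynomial (Fin s) k →+* A) (hg : g.comp MvPolynomial.C = ψ)
    (t : Finset A) (ht : ∀ a : A, ∃ c : t → MvPolynomial (Fin s) k, a = ∑ x : t, g (c x) * x.1)
    (a : k →+* L) :
    Finite { φ : A →+* L // φ.comp ψ = a } ∧
      Nat.card { φ : A →+* L // φ.comp ψ = a } ≤ t.card * Nat.card L ^ s := by
  classical
  obtain ⟨hT1, hT2⟩ := mvPoly_card_le (k := k) (L := L) s a
  let ρ : { φ : A →+* L // φ.comp ψ = a } →
      { φ : MvPolynomial (Fin s) k →+* L // φ.comp MvPolynomial.C = a } :=
    fun φ => ⟨φ.1.comp g, by rw [RingHom.comp_assoc, hg, φ.2]⟩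
  have hfib : ∀ φ₀ : { φ : MvPolynomial (Fin s) k →+* L // φ.comp MvPolynomial.C = a },
      Finite { φ // ρ φ = φ₀ } ∧ Nat.card { φ // ρ φ = φ₀ } ≤ t.card := by
    intro φ₀
    obtain ⟨h1, h2⟩ := fiber_card_le g t ht φ₀.1
    have hinj : Function.Injective (fun φ : { φ // ρ φ = φ₀ } =>
        (⟨φ.1.1, congrArg Subtype.val φ.2⟩ : { φ : A →+* L // φ.comp g = φ₀.1 })) := by
      intro φ φ' h
      have h3 : φ.1.1 = φ'.1.1 := by
        have h4 := congrArg (fun z : { φ : A →+* L // φ.comp g = φ₀.1 } => z.1) h
        exact h4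
      exact Subtype.ext (Subtype.ext h3)
    exact ⟨Finite.of_injective _ hinj, (Nat.card_le_card_of_injective _ hinj).trans h2⟩
  haveI := fun φ₀ => (hfib φ₀).1
  haveI := Fintype.ofFinite
    { φ : MvPolynomial (Fin s) k →+* L // φ.comp MvPolynomial.C = a }
  haveI : Finite { φ : A →+* L // φ.comp ψ = a } :=
    Finite.of_equiv _ (Equiv.sigmaFiberEquiv ρ)
  refine ⟨inferInstance, ?_⟩
  rw [← Nat.card_congr (Equiv.sigmaFiberEquiv ρ), Nat.card_sigma]
  calc ∑ φ₀, Nat.card { φ // ρ φ = φ₀ } ≤ ∑ φ₀ : { φ : MvPolynomial (Fin s) k →+* L //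
        φ.comp MvPolynomial.C = a }, t.card := Finset.sum_le_sum fun φ₀ _ => (hfib φ₀).2
    _ = Nat.card { φ : MvPolynomial (Fin s) k →+* L // φ.comp MvPolynomial.C = a } * t.card := by
        rw [Finset.sum_const, Finset.card_univ, smul_eq_mul, Nat.card_eq_fintype_card]
    _ ≤ t.card * Nat.card L ^ s := by
        rw [mul_comm]
        exact Nat.mul_le_mul_left _ hT2

end Groth.Agent.Lib.Helper6.FFPts
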