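import Mathlib
import Groth.Agent.Lib.Helper6.FFPts.RingCount

set_option linter.unusedSectionVars false
set_option linter.unusedVariables false
set_option linter.unusedSimpArgs false
set_option autoImplicit false
set_option linter.style.haveILetI false
set_option maxHeartbeats 400000

/-!
# Uniform bound on the number of points of a finite type algebra of dimension `≤ r`
-/

noncomputable section

universe u

namespace Groth.Agent.Lib.Helper6.FFPts

theorem exists_bound {k A : Type u} [Field k] [CommRing A] (ψ : k →+* A) (hψ : ψ.FiniteType)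
    (r : ℕ) (hr : ringKrullDim A ≤ r) :
    ∃ N : ℕ, ∀ (L : Type u) [Field L] [Finite L] (a : k →+* L),
      Nat.card { φ : A →+* L // φ.comp ψ = a } ≤ N * Nat.card L ^ r := by
  rcases subsingleton_or_nontrivial A with hA | hA
  · refine ⟨0, fun L _ _ a => ?_⟩
    haveI : IsEmpty { φ : A →+* L // φ.comp ψ = a } := ⟨fun φ => by
      have h1 : φ.1 1 = 1 := map_one _
      have h0 : φ.1 0 = 0 := map_zero _
      rw [Subsingleton.elim (1 : A) 0, h0] at h1
      exact zero_ne_one h1⟩
    simp
  · letI := ψ.toAlgebra
    haveI : Algebra.FiniteType k A := hψ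
    obtain ⟨s, g, hinj, hfin⟩ := exists_finite_inj_algHom_of_fg k A
    letI alg : Algebra (MvPolynomial (Fin s) k) A := g.toRingHom.toAlgebra
    haveI : Module.Finite (MvPolynomial (Fin s) k) A := hfin
    haveI : Algebra.IsIntegral (MvPolynomial (Fin s) k) A := Algebra.IsIntegral.of_finite _ _
    have hdim : ringKrullDim (MvPolynomial (Fin s) k) ≤ ringKrullDim A :=
      ringKrullDim_le_of_integral_injective hinj
    have hs : s ≤ r := by
      rw [MvPolynomial.ringKrullDim_of_isNoetherianRing, ringKrullDim_eq_zero_of_field,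
        zero_add, Nat.card_fin] at hdim
      have := hdim.trans hr
      exact_mod_cast this
    obtain ⟨t, ht⟩ := (Module.Finite.fg_top : (⊤ : Submodule (MvPolynomial (Fin s) k) A).FG)
    have ht' : ∀ a : A, ∃ c : t → MvPolynomial (Fin s) k,
        a = ∑ x : t, g.toRingHom (c x) * x.1 := by
      intro a
      have ha : a ∈ Submodule.span (MvPolynomial (Fin s) k) (t : Set A) := by
        rw [ht]; trivial
      obtain ⟨c, hc⟩ := Submodule.mem_span_finset'.mp ha
      exact ⟨c, hc.symm⟩
    have hg : g.toRingHom.comp MvPolynomial.C = ψ := by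
      ext x
      exact g.commutes x
    refine ⟨t.card, fun L _ _ a => ?_⟩
    obtain ⟨-, h2⟩ := hom_card_le (L := L) ψ s g.toRingHom hg t ht' a
    refine h2.trans (Nat.mul_le_mul_left _ ?_)
    exact Nat.pow_le_pow_right Nat.card_pos hs

end Groth.Agent.Lib.Helper6.FFPts
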