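import Mathlib
import Groth.Agent.Lib.Helper6.FFPts.RingBound
import Groth.Agent.Lib.Helper6.FFPts.Finite

set_option linter.unusedSectionVars false
set_option linter.unusedVariables false
set_option linter.unusedSimpArgs false
set_option autoImplicit false
set_option linter.style.haveILetI false
set_option maxHeartbeats 400000

/-!
# `#X(k') ≤ c · q^{r·[k':k]}` for a finite type scheme of dimension `≤ r` over a finite field
-/

noncomputable section

universe u

open CategoryTheory AlgebraicGeometry

namespace Groth.Agent.Lib.Helper6.FFPts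

variable {k : Type u} [Field k] {X : Scheme.{u}} (f : X ⟶ Spec (CommRingCat.of k))

theorem ringKrullDim_affineOpen_le (U : X.affineOpens) :
    ringKrullDim Γ(X, U) ≤ topologicalKrullDim X := by
  rw [← PrimeSpectrum.topologicalKrullDim_eq_ringKrullDim]
  haveI := U.2.isOpenImmersion_fromSpec
  exact U.2.fromSpec.isOpenEmbedding.isInducing.topologicalKrullDim_le

theorem card_openPts_le (k' : Type u) [Field k'] [Algebra k k'] [Finite k'] [LocallyOfFiniteType f]
    (U : X.affineOpens) :
    Nat.card (OpenPts f k' U) ≤
      Nat.card { φ : Γ(X, U) →+* k' // φ.comp (structHomOpen f U).hom = algebraMap k k' } := by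
  haveI := finite_ringHom_of_finiteType (B := k') (structHomOpen f U).hom
    (finiteType_structHomOpen f U) (algebraMap k k')
  refine Nat.card_le_card_of_injective
    (fun φ : OpenPts f k' U =>
      (⟨φ.1.hom, by
        have h := φ.2
        have h' := congrArg CommRingCat.Hom.hom h
        exact h'⟩ : { φ : Γ(X, U) →+* k' // φ.comp (structHomOpen f U).hom = algebraMap k k' })) ?_
  intro φ φ' h
  apply Subtype.ext
  ext x
  have := congrArg (fun χ => χ.1 x) h
  exact this

theorem exists_card_pts_le [Finite k] [LocallyOfFiniteType f] [QuasiCompact f] (r : ℕ)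
    (hr : topologicalKrullDim X ≤ r) :
    ∃ c : ℕ, ∀ (k' : Type u) [Field k'] [Algebra k k'] [Finite k'],
      Nat.card (Pts f k') ≤ c * Nat.card k ^ (r * Module.finrank k k') := by
  classical
  haveI : CompactSpace X := QuasiCompact.compactSpace_of_compactSpace f
  obtain ⟨s, hs, hU⟩ := (isCompact_iff_finite_and_eq_biUnion_affineOpens (U := (⊤ : X.Opens))).mp
    (by simpa using isCompact_univ)
  haveI := hs.fintype
  have hN : ∀ U : X.affineOpens, ∃ N : ℕ, ∀ (L : Type u) [Field L] [Finite L] (a : k →+* L),
      Nat.card { φ : Γ(X, U) →+* L // φ.comp (structHomOpen f U).hom = a } ≤ N * Nat.card L ^ r :=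
    fun U => exists_bound (structHomOpen f U).hom (finiteType_structHomOpen f U) r
      ((ringKrullDim_affineOpen_le U).trans hr)
  choose N hN using hN
  refine ⟨∑ U : s, N U.1, fun k' _ _ _ => ?_⟩
  haveI : ∀ U : X.affineOpens, Finite (OpenPts f k' U) := fun U => finite_openPts f k' U
  let F : (Σ U : s, OpenPts f k' U.1) → Pts f k' := fun p => openPtsMap f k' p.1.1 p.2
  have hF : Function.Surjective F := by
    intro g
    have hx : g.1 (IsLocalRing.closedPoint k') ∈ (⊤ : X.Opens) := trivial
    rw [hU] at hx
    simp only [TopologicalSpace.Opens.mem_iSup] at hx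
    obtain ⟨U, hUs, hxU⟩ := hx
    obtain ⟨φ, hφ⟩ := mem_range_openPtsMap f k' U g hxU
    exact ⟨⟨⟨U, hUs⟩, φ⟩, hφ⟩
  have h1 := Nat.card_le_card_of_surjective F hF
  rw [Nat.card_sigma] at h1
  refine h1.trans ?_
  rw [Finset.sum_mul]
  refine Finset.sum_le_sum fun U _ => ?_
  refine (card_openPts_le f k' U.1).trans ?_
  refine (hN U.1 k' (algebraMap k k')).trans ?_
  haveI : Module.Finite k k' := Module.Finite.of_finite
  rw [Module.natCard_eq_pow_finrank (K := k) (V := k'), ← pow_mul, mul_comm r]

end Groth.Agent.Lib.Helper6.FFPts
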